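import Cfsg.Agent.Lib.Classical.Unitary.MatrixStructure
import Cfsg.Agent.Lib.Fusion.PSUElems

/-!
# `PSU₃(q)`, `q` even, as a permutation group of the unital

The unital is `Option (Pt F q)`: the finite points `(x, z)` with `x + x^q + z^(q+1) = 0` stand for the
isotropic vectors `(x, z, 1)` of the form `X Ȳ' + Z Z̄' + Y X̄'`, and `none` for `(1, 0, 0)`.
The translations by the root group at `none` and the swap of the first and last coordinates
generate a copy of `Cfsg.PSU 3 F q`.
-/

set_option autoImplicit false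
set_option linter.all false

namespace CfsgLib.Perm.RankOne.Unital

open CfsgLib.Classical CfsgLib.Classical.Herm
open CfsgLib.Fusion.PSU (revB revB_apply isHerm)
open scoped LinearAlgebra.Projectivization

variable {F : Type*} [Field F] [Fintype F] [CharP F 2] {q : ℕ} (hF : Fintype.card F = q ^ 2)

/-- The finite points of the unital. -/
abbrev Pt (F : Type*) [Field F] (q : ℕ) : Type _ :=
  {p : F × F // p.1 + p.1 ^ q + p.2 ^ (q + 1) = 0}

theorem two_eq_zero : (2 : F) = 0 := CharP.ofNat_eq_zero F 2

include hF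

theorem pow_add (x y : F) : (x + y) ^ q = x ^ q + y ^ q := map_add (powHom hF) x y

theorem pow_pow_self (x : F) : (x ^ q) ^ q = x := (powHom_isInvol hF).invol x

theorem trans_mem (s p : Pt F q) :
    (p.1.1 + s.1.1 + s.1.2 ^ q * p.1.2) + (p.1.1 + s.1.1 + s.1.2 ^ q * p.1.2) ^ q +
      (p.1.2 + s.1.2) ^ (q + 1) = 0 := by
  have hp := p.2
  have hs := s.2
  rw [pow_succ] at hp hs
  rw [pow_succ, pow_add hF, pow_add hF, pow_add hF, mul_pow, pow_pow_self hF]
  linear_combination hp + hs +
    (s.1.2 * p.1.2 ^ q + s.1.2 ^ q * p.1.2) * two_eq_zero (F := F)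

/-- The translation of the finite points by `(a, c)`. -/
def transFun (s p : Pt F q) : Pt F q :=
  ⟨(p.1.1 + s.1.1 + s.1.2 ^ q * p.1.2, p.1.2 + s.1.2), trans_mem hF s p⟩

theorem invPt_mem (s : Pt F q) : s.1.1 ^ q + (s.1.1 ^ q) ^ q + s.1.2 ^ (q + 1) = 0 := by
  rw [pow_pow_self hF]
  linear_combination s.2

/-- The inverse translation. -/
def invPt (s : Pt F q) : Pt F q := ⟨(s.1.1 ^ q, s.1.2), invPt_mem hF s⟩

theorem trans_inv (s p : Pt F q) : transFun hF (invPt hF s) (transFun hF s p) = p := by
  apply Subtype.ext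
  have hs := s.2
  rw [pow_succ] at hs
  simp only [transFun, invPt]
  refine Prod.ext ?_ ?_
  · show _ = p.1.1
    linear_combination hs + (s.1.2 ^ q * p.1.2) * two_eq_zero (F := F)
  · show _ = p.1.2
    linear_combination s.1.2 * two_eq_zero (F := F)

theorem invPt_invPt (s : Pt F q) : invPt hF (invPt hF s) = s := by
  apply Subtype.ext
  simp [invPt, pow_pow_self hF]

/-- The translation by `(a, c)`, fixing `none`. -/
def transPerm (s : Pt F q) : Equiv.Perm (Option (Pt F q)) :=
  Equiv.optionCongr
    { toFun := transFun hF s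
      invFun := transFun hF (invPt hF s)
      left_inv := trans_inv hF s
      right_inv := fun p => by
        conv_lhs => rw [← invPt_invPt hF s]
        simpa [invPt_invPt hF] using trans_inv hF (invPt hF s) p }

@[simp] theorem transPerm_none (s : Pt F q) : transPerm hF s none = none := rfl

@[simp] theorem transPerm_some (s p : Pt F q) :
    transPerm hF s (some p) = some (transFun hF s p) := rfl

theorem q_ne_zero : q ≠ 0 := by have := two_le_of_card_sq hF; omega

theorem snd_eq_zero {p : Pt F q} (h : p.1.1 = 0) : p.1.2 = 0 := by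
  have h' := p.2
  rw [h, zero_pow (q_ne_zero hF), add_zero, zero_add] at h'
  exact eq_zero_of_pow_eq_zero h'

/-- The finite point `(0, 0)`. -/
def zeroPt : Pt F q := ⟨(0, 0), by simp [q_ne_zero hF]⟩

theorem eq_zeroPt {p : Pt F q} (h : p.1.1 = 0) : p = zeroPt hF :=
  Subtype.ext (Prod.ext h (snd_eq_zero hF h))

theorem swap_mem {p : Pt F q} (h : p.1.1 ≠ 0) :
    p.1.1⁻¹ + p.1.1⁻¹ ^ q + (p.1.2 / p.1.1) ^ (q + 1) = 0 := by
  have hp := p.2
  rw [pow_succ] at hp
  have hxq : p.1.1 ^ q ≠ 0 := pow_ne_zero _ h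
  rw [inv_pow, pow_succ, div_pow]
  field_simp
  linear_combination hp

/-- The swap of the first and the last coordinate. -/
noncomputable def swapFun : Option (Pt F q) → Option (Pt F q)
  | none => some (zeroPt hF)
  | some p =>
    haveI : DecidableEq F := Classical.decEq F
    if h : p.1.1 = 0 then none
    else some ⟨(p.1.1⁻¹, p.1.2 / p.1.1), swap_mem hF h⟩

theorem swapFun_some {p : Pt F q} (h : p.1.1 ≠ 0) :
    ∃ r : Pt F q, r.1 = (p.1.1⁻¹, p.1.2 / p.1.1) ∧ swapFun hF (some p) = some r :=
  ⟨⟨(p.1.1⁻¹, p.1.2 / p.1.1), swap_mem hF h⟩, rfl, by simp only [swapFun, dif_neg h]⟩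

theorem swapFun_zero {p : Pt F q} (h : p.1.1 = 0) : swapFun hF (some p) = none := by
  simp only [swapFun, dif_pos h]

theorem swapFun_involutive : Function.Involutive (swapFun hF) := by
  rintro (_ | p)
  · exact swapFun_zero hF rfl
  · by_cases h : p.1.1 = 0
    · rw [swapFun_zero hF h, eq_zeroPt hF h]
      rfl
    · obtain ⟨r, hr, e⟩ := swapFun_some hF h
      have h1 : r.1.1 = p.1.1⁻¹ := congrArg Prod.fst hr
      have h2 : r.1.2 = p.1.2 / p.1.1 := congrArg Prod.snd hr
      obtain ⟨r', hr', e'⟩ := swapFun_some hF (p := r) (by rw [h1]; exact inv_ne_zero h)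
      rw [e, e']
      refine congrArg some (Subtype.ext ?_)
      rw [hr', h1, h2, inv_inv]
      refine Prod.ext rfl ?_
      field_simp

/-- The swap. -/
noncomputable def swapPerm : Equiv.Perm (Option (Pt F q)) := (swapFun_involutive hF).toPerm

@[simp] theorem swapPerm_apply (p : Option (Pt F q)) : swapPerm hF p = swapFun hF p := rfl

/-- The group generated by the translations and the swap. -/
noncomputable def modelGroup : Subgroup (Equiv.Perm (Option (Pt F q))) :=
  Subgroup.closure (Set.range (transPerm hF) ∪ {swapPerm hF})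

theorem transPerm_mem (s : Pt F q) : transPerm hF s ∈ modelGroup hF :=
  Subgroup.subset_closure (Or.inl ⟨s, rfl⟩)

theorem swapPerm_mem : swapPerm hF ∈ modelGroup hF :=
  Subgroup.subset_closure (Or.inr rfl)

omit hF

/-! ### The isometries -/

section

variable {σ : F →+* F}

/-- The vector of a point. -/
def vec : Option (Pt F q) → Fin 3 → F
  | none => ![1, 0, 0]
  | some p => ![p.1.1, p.1.2, 1]

theorem vec_ne_zero : ∀ p : Option (Pt F q), vec p ≠ 0
  | none => fun h => one_ne_zero (congrFun h 0)
  | some p => fun h => one_ne_zero (congrFun h 2)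

theorem revB_three (σ : F →+* F) (x y : Fin 3 → F) :
    revB σ 3 x y = σ (x 0) * y 2 + σ (x 1) * y 1 + σ (x 2) * y 0 := by
  rw [revB_apply, Fin.sum_univ_three]
  rfl

/-- The matrix map of a translation. -/
def transLin (σ : F →+* F) (a c : F) : (Fin 3 → F) →ₗ[F] (Fin 3 → F) where
  toFun v := ![v 0 + σ c * v 1 + a * v 2, v 1 + c * v 2, v 2]
  map_add' v w := by
    funext i
    fin_cases i <;> simp <;> ring
  map_smul' k v := by
    funext i
    fin_cases i <;> simp <;> ring

/-- The matrix map of the swap. -/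
def swapLin : (Fin 3 → F) →ₗ[F] (Fin 3 → F) where
  toFun v := ![v 2, v 1, v 0]
  map_add' v w := by
    funext i
    fin_cases i <;> simp
  map_smul' k v := by
    funext i
    fin_cases i <;> simp

theorem transLin_preserves (hσ : IsInvol σ) {a c : F} (h : a + σ a + σ c * c = 0)
    (v w : Fin 3 → F) :
    revB σ 3 (transLin σ a c v) (transLin σ a c w) = revB σ 3 v w := by
  simp only [revB_three, transLin, LinearMap.coe_mk, AddHom.coe_mk, Matrix.cons_val_zero,
    Matrix.cons_val_one, Matrix.cons_val_two, Matrix.head_cons, Matrix.tail_cons, map_add, map_mul,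
    hσ.invol]
  linear_combination (σ (v 2) * w 2) * h +
    (c * σ (v 1) * w 2 + σ c * σ (v 2) * w 1) * two_eq_zero (F := F)

theorem swapLin_preserves (v w : Fin 3 → F) :
    revB σ 3 (swapLin v) (swapLin w) = revB σ 3 v w := by
  simp only [revB_three, swapLin, LinearMap.coe_mk, AddHom.coe_mk, Matrix.cons_val_zero,
    Matrix.cons_val_one, Matrix.cons_val_two, Matrix.head_cons, Matrix.tail_cons]
  ring

theorem det_transLin (a c : F) : LinearMap.det (transLin σ a c) = 1 := by
  rw [← LinearMap.det_toMatrix' (transLin σ a c), Matrix.det_fin_three]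
  simp [LinearMap.toMatrix'_apply, transLin]

theorem det_swapLin : LinearMap.det (swapLin : (Fin 3 → F) →ₗ[F] (Fin 3 → F)) = 1 := by
  rw [← LinearMap.det_toMatrix' (swapLin : (Fin 3 → F) →ₗ[F] (Fin 3 → F)), Matrix.det_fin_three]
  simp [LinearMap.toMatrix'_apply, swapLin]
  linear_combination -(two_eq_zero (F := F))

end

include hF

/-- The form of the model. -/
noncomputable abbrev form : (Fin 3 → F) →ₛₗ[powHom hF] (Fin 3 → F) →ₗ[F] F :=
  revB (powHom hF) 3

theorem isHerm_form : IsHerm (form hF) := by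
  haveI : Fact (IsInvol (powHom hF)) := ⟨powHom_isInvol hF⟩
  exact isHerm

omit hF in
theorem det_ofPreserves {σ : F →+* F} {B : (Fin 3 → F) →ₛₗ[σ] (Fin 3 → F) →ₗ[F] F} (h : IsHerm B)
    (f : (Fin 3 → F) →ₗ[F] (Fin 3 → F)) (hf : ∀ y z, B (f y) (f z) = B y z)
    (hd : LinearMap.det f = 1) : HU.det B (h.ofPreserves f hf) = 1 := by
  ext
  show ((LinearEquiv.det (h.ofPreserves f hf : (Fin 3 → F) ≃ₗ[F] (Fin 3 → F)) : Fˣ) : F) = 1
  rw [LinearEquiv.coe_det]
  exact hd

/-- The translation as an isometry. -/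
noncomputable def transIso (s : Pt F q) : HSU (form hF) :=
  ⟨(isHerm_form hF).ofPreserves (transLin (powHom hF) s.1.1 s.1.2)
      (transLin_preserves (powHom_isInvol hF) (by
        have hs := s.2
        rw [pow_succ] at hs
        rw [powHom_apply, powHom_apply]
        linear_combination hs)), by
    rw [MonoidHom.mem_ker]
    exact det_ofPreserves (isHerm_form hF) _ _ (det_transLin _ _)⟩

/-- The swap as an isometry. -/
noncomputable def swapIso : HSU (form hF) :=
  ⟨(isHerm_form hF).ofPreserves swapLin swapLin_preserves, by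
    rw [MonoidHom.mem_ker]
    exact det_ofPreserves (isHerm_form hF) _ _ det_swapLin⟩

theorem transIso_apply (s : Pt F q) (v : Fin 3 → F) :
    ((transIso hF s : HU (form hF)) : (Fin 3 → F) ≃ₗ[F] (Fin 3 → F)) v =
      ![v 0 + s.1.2 ^ q * v 1 + s.1.1 * v 2, v 1 + s.1.2 * v 2, v 2] := rfl

theorem swapIso_apply (v : Fin 3 → F) :
    ((swapIso hF : HU (form hF)) : (Fin 3 → F) ≃ₗ[F] (Fin 3 → F)) v = ![v 2, v 1, v 0] := rfl

theorem vec_iso : ∀ p : Option (Pt F q), form hF (vec p) (vec p) = 0
  | none => by simp [revB_three, vec, q_ne_zero hF]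
  | some p => by
    have hp := p.2
    rw [pow_succ] at hp
    simp only [revB_three, vec, powHom_apply, Matrix.cons_val_zero, Matrix.cons_val_one,
      Matrix.cons_val_two, Matrix.head_cons, Matrix.tail_cons, one_pow]
    linear_combination hp

/-- A point of the unital as an isotropic point. -/
noncomputable def toPoint (p : Option (Pt F q)) : isoPts (form hF) :=
  isoPoint (vec_ne_zero p) (vec_iso hF p)

theorem toPoint_bijective : Function.Bijective (toPoint hF) := by
  constructor
  · intro p r h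
    obtain ⟨a, ha⟩ := (isoPoint_eq_iff _ _ _ _).1 h
    rcases p with _ | p <;> rcases r with _ | r
    · rfl
    · have h2 := congrFun ha 2
      have h0 := congrFun ha 0
      simp [vec] at h2 h0
      simp [h2] at h0
    · exact absurd (congrFun ha 2) (by simp [vec])
    · have h2 := congrFun ha 2
      have h0 := congrFun ha 0
      have h1 := congrFun ha 1
      simp [vec] at h2 h0 h1
      rw [h2, one_mul] at h0 h1
      exact congrArg some (Subtype.ext (Prod.ext h0.symm h1.symm))
  · intro x
    obtain ⟨u, hu, huu, rfl⟩ := exists_isoPoint_eq x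
    have hiso : u 0 ^ q * u 2 + u 1 ^ q * u 1 + u 2 ^ q * u 0 = 0 := by
      simpa only [revB_three, powHom_apply] using huu
    by_cases h2 : u 2 = 0
    · have h1 : u 1 = 0 := by
        rw [h2, zero_pow (q_ne_zero hF), mul_zero, zero_mul, add_zero, zero_add] at hiso
        rcases mul_eq_zero.1 hiso with h | h
        · exact eq_zero_of_pow_eq_zero h
        · exact h
      have h0 : u 0 ≠ 0 := fun h0 => hu (by funext i; fin_cases i <;> simp [h0, h1, h2])
      refine ⟨none, (isoPoint_eq_iff _ _ _ _).2 ⟨(u 0)⁻¹, ?_⟩⟩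
      funext i
      fin_cases i <;> simp [vec, h0, h1, h2]
    · have h2q : u 2 ^ q ≠ 0 := pow_ne_zero _ h2
      refine ⟨some ⟨(u 0 / u 2, u 1 / u 2), ?_⟩, (isoPoint_eq_iff _ _ _ _).2 ⟨(u 2)⁻¹, ?_⟩⟩
      · show u 0 / u 2 + (u 0 / u 2) ^ q + (u 1 / u 2) ^ (q + 1) = 0
        rw [pow_succ, div_pow, div_pow]
        field_simp
        linear_combination hiso
      · funext i
        fin_cases i <;> simp [vec, h2, div_eq_inv_mul]

/-- The points of the unital and the isotropic points. -/
noncomputable def pointEquiv : Option (Pt F q) ≃ isoPts (form hF) :=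
  Equiv.ofBijective _ (toPoint_bijective hF)

/-- The action of the special unitary group on the unital. -/
noncomputable def actHom : HSU (form hF) →* Equiv.Perm (Option (Pt F q)) :=
  (pointEquiv hF).symm.permCongrHom.toMonoidHom.comp
    (MulAction.toPermHom (HSU (form hF)) (isoPts (form hF)))

theorem actHom_apply (g : HSU (form hF)) (p : Option (Pt F q)) :
    actHom hF g p = (pointEquiv hF).symm (g • toPoint hF p) := rfl

theorem actHom_eq_of {g : HSU (form hF)} {p r : Option (Pt F q)} (h : g • toPoint hF p = toPoint hF r) :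
    actHom hF g p = r := by
  rw [actHom_apply, Equiv.symm_apply_eq]
  exact h

theorem smul_toPoint {g : HSU (form hF)} {p r : Option (Pt F q)} {a : F}
    (ha : a ≠ 0) (h : ((g : HU (form hF)) : (Fin 3 → F) ≃ₗ[F] (Fin 3 → F)) (vec p) = a • vec r) :
    g • toPoint hF p = toPoint hF r := by
  unfold toPoint
  rw [smul_isoPoint (g := g) (vec_ne_zero p) (vec_iso hF p) (v := a • vec r)
    (smul_ne_zero ha (vec_ne_zero r))
    (by rw [Herm.smul_left, Herm.smul_right, vec_iso, mul_zero, mul_zero]) h]
  exact (isoPoint_eq_iff _ _ _ _).2 ⟨a, rfl⟩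

theorem actHom_trans (s : Pt F q) : actHom hF (transIso hF s) = transPerm hF s := by
  ext1 p
  refine actHom_eq_of hF (smul_toPoint hF one_ne_zero ?_)
  rw [one_smul, transIso_apply]
  rcases p with _ | p
  · funext i
    fin_cases i <;> simp [vec]
  · funext i
    fin_cases i <;> simp [vec, transFun] <;> ring

theorem actHom_swap : actHom hF (swapIso hF) = swapPerm hF := by
  ext1 p
  refine actHom_eq_of hF ?_
  rcases p with _ | p
  · refine smul_toPoint hF one_ne_zero ?_
    rw [one_smul, swapIso_apply]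
    funext i
    fin_cases i <;> simp [vec, swapFun, zeroPt]
  · by_cases h : p.1.1 = 0
    · rw [swapPerm_apply, swapFun_zero hF h]
      refine smul_toPoint hF one_ne_zero ?_
      rw [one_smul, swapIso_apply]
      funext i
      fin_cases i <;> simp [vec, h, snd_eq_zero hF h]
    · obtain ⟨r, hr, e⟩ := swapFun_some hF h
      rw [swapPerm_apply, e]
      refine smul_toPoint hF h ?_
      rw [swapIso_apply]
      funext i
      fin_cases i <;> simp [vec, hr, h] <;> field_simp

theorem exists_act_none (p : Option (Pt F q)) : ∃ m ∈ modelGroup hF, m none = p := by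
  rcases p with _ | p
  · exact ⟨1, one_mem _, rfl⟩
  · refine ⟨transPerm hF p * swapPerm hF, mul_mem (transPerm_mem hF p) (swapPerm_mem hF), ?_⟩
    rw [Equiv.Perm.mul_apply, swapPerm_apply]
    show transPerm hF p (some (zeroPt hF)) = some p
    rw [transPerm_some]
    refine congrArg some (Subtype.ext ?_)
    simp [transFun, zeroPt]

/-- The subgroup of the special unitary group generated by the translations and the swap. -/
noncomputable def genGroup : Subgroup (HSU (form hF)) :=
  Subgroup.closure (Set.range (transIso hF) ∪ {swapIso hF})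

theorem map_genGroup : (genGroup hF).map (actHom hF) = modelGroup hF := by
  rw [genGroup, MonoidHom.map_closure, modelGroup]
  congr 1
  rw [Set.image_union, ← Set.range_comp, Set.image_singleton, actHom_swap]
  congr 2
  exact funext fun s => actHom_trans hF s

variable (hq : q ≠ 2)
include hq

theorem genGroup_eq_top : genGroup hF = ⊤ := by
  set h := isHerm_form hF
  rw [eq_top_iff]
  rintro g -
  suffices (g : HU (form hF)) ∈ (genGroup hF).map (HSU (form hF)).subtype by
    obtain ⟨g', hg', he⟩ := Subgroup.mem_map.1 this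
    rwa [← Subtype.ext (show (g' : HU (form hF)) = g from he)]
  refine (?_ : h.trGroup ≤ _)
    (h.generated (by rw [Module.finrank_fin_fun]; omega)
      (fun _ => by rw [card_fixed_powHom]; exact hq) g.2)
  rw [IsHerm.trGroup, Subgroup.closure_le]
  rintro _ ⟨u, huu, c, hc, rfl⟩
  by_cases hu : u = 0
  · have : h.tr huu hc = 1 := by ext y; simp [IsHerm.tr_apply, hu]
    rw [this]
    exact one_mem _
  obtain ⟨p, hp⟩ := (toPoint_bijective hF).2 (isoPoint hu huu)
  obtain ⟨m', hm', hmp⟩ := exists_act_none hF p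
  rw [← map_genGroup hF] at hm'
  obtain ⟨m, hm, rfl⟩ := Subgroup.mem_map.1 hm'
  have hmv : m • toPoint hF none = isoPoint hu huu := by
    rw [← hp, ← hmp, actHom_apply]
    exact ((pointEquiv hF).apply_symm_apply _).symm
  set M := ((m : HU (form hF)) : (Fin 3 → F) ≃ₗ[F] (Fin 3 → F)) with hM
  have hMv : M (vec (none : Option (Pt F q))) ≠ 0 := by simpa using vec_ne_zero (q := q) (none : Option (Pt F q))
  have hMM : form hF (M (vec (none : Option (Pt F q)))) (M (vec (none : Option (Pt F q)))) = 0 :=
    (HU.map_eq (m : HU (form hF)) _ _).trans (vec_iso hF none)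
  rw [show toPoint hF none = isoPoint (vec_ne_zero none) (vec_iso hF none) from rfl,
    smul_isoPoint (g := m) _ _ hMv hMM rfl] at hmv
  obtain ⟨μ, hμ⟩ := (isoPoint_eq_iff hu huu hMv hMM).1 hmv.symm
  have hk : (c * (μ * μ ^ q)) + (c * (μ * μ ^ q)) ^ q + (0 : F) ^ (q + 1) = 0 := by
    rw [powHom_apply] at hc
    rw [zero_pow (by omega), mul_pow, mul_pow, pow_pow_self hF]
    linear_combination (μ * μ ^ q) * hc
  refine Subgroup.mem_map.2 ⟨m * transIso hF ⟨(c * (μ * μ ^ q), 0), hk⟩ * m⁻¹,
    mul_mem (mul_mem hm (Subgroup.subset_closure (Or.inl ⟨_, rfl⟩))) (inv_mem hm), ?_⟩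
  ext1
  refine LinearEquiv.ext fun y => ?_
  rw [IsHerm.tr_apply]
  obtain ⟨z, rfl⟩ := M.surjective y
  show M (((transIso hF _ : HU (form hF)) : (Fin 3 → F) ≃ₗ[F] (Fin 3 → F)) (M.symm (M z))) = _
  have hu' : form hF u (M z) = μ ^ q * form hF (vec (none : Option (Pt F q))) z := by
    rw [← hμ, Herm.smul_left, HU.map_eq]
    rfl
  rw [LinearEquiv.symm_apply_apply, transIso_apply, hu', ← hμ, smul_smul, ← map_smul, ← map_add]
  congr 1
  funext i
  fin_cases i <;> simp [vec, revB_three, q_ne_zero hF] <;> ring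

theorem range_actHom : (actHom hF).range = modelGroup hF := by
  rw [MonoidHom.range_eq_map, ← genGroup_eq_top hF hq, map_genGroup]

omit hq in
theorem ker_actHom : (actHom hF).ker = Subgroup.center (HSU (form hF)) := by
  have h := isHerm_form hF
  ext g
  rw [MonoidHom.mem_ker, h.mem_center_HSU_iff (by rw [Module.finrank_fin_fun])]
  constructor
  · intro hg
    refine h.eigen_of_fix_isoPts (by rw [Module.finrank_fin_fun]) fun x => ?_
    obtain ⟨p, rfl⟩ := (toPoint_bijective hF).2 x
    have := congrArg (fun e : Equiv.Perm (Option (Pt F q)) => e p) hg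
    simp only [actHom_apply, Equiv.Perm.one_apply, Equiv.symm_apply_eq] at this
    exact this
  · rintro ⟨a, ha⟩
    ext1 p
    rw [Equiv.Perm.one_apply]
    refine actHom_eq_of hF (smul_toPoint hF ?_ (ha _))
    intro ha0
    have := ha (vec p)
    rw [ha0, zero_smul, LinearEquiv.map_eq_zero_iff] at this
    exact vec_ne_zero p this

/-- **The unital model of `PSU₃(q)`.** -/
theorem nonempty_modelGroup_equiv : Nonempty (modelGroup hF ≃* Cfsg.PSU 3 F q) := by
  have : Fact (IsInvol (powHom hF)) := ⟨powHom_isInvol hF⟩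
  obtain ⟨e, he⟩ := IsHerm.exists_isometry_of_finrank_eq (hermStd_isHerm (n := 3) hF)
    (isHerm_form hF) rfl
  let E : HU (hermStd 3 hF) ≃* HU (form hF) :=
    isoCongrEq (f := fun u v => hermStd 3 hF u v) (f' := fun u v => form hF u v) e he
  have hE : (HSU (hermStd 3 hF)).map E.toMonoidHom = HSU (form hF) := by
    ext g
    rw [Subgroup.mem_map_equiv, MonoidHom.mem_ker, MonoidHom.mem_ker]
    obtain ⟨k, rfl⟩ := E.surjective g
    rw [E.symm_apply_apply]
    have : HU.det (form hF) (E k) = HU.det (hermStd 3 hF) k := by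
      show LinearEquiv.det (e.symm.trans ((k : (Fin 3 → F) ≃ₗ[F] (Fin 3 → F)).trans e)) =
        LinearEquiv.det (k : (Fin 3 → F) ≃ₗ[F] (Fin 3 → F))
      exact LinearEquiv.det_conj _ _
    rw [this]
  let ε : Cfsg.SU 3 F q ≃* HSU (form hF) :=
    (suEquiv 3 hF).trans ((E.subgroupMap (HSU (hermStd 3 hF))).trans (MulEquiv.subgroupCongr hE))
  let ψ : Cfsg.PSU 3 F q ≃* HSU (form hF) ⧸ Subgroup.center (HSU (form hF)) :=
    QuotientGroup.congr _ _ ε (map_center_of_equiv ε)
  exact ⟨(((ψ.trans (QuotientGroup.quotientMulEquivOfEq (ker_actHom hF).symm)).trans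
    (QuotientGroup.quotientKerEquivRange _)).trans
    (MulEquiv.subgroupCongr (range_actHom hF hq))).symm⟩

theorem isSimpleGroup_modelGroup : IsSimpleGroup (modelGroup hF) := by
  obtain ⟨e⟩ := nonempty_modelGroup_equiv hF hq
  have := isSimpleGroup_PSU' hF 3 le_rfl (fun _ => hq)
  exact e.isSimpleGroup_congr.2 this

/-- A set of permutations of `Ω` acting on the unital as the translations, with an element acting
as the swap, generates `PSU₃(q)`. -/
theorem nonempty_closure_equiv {G Ω : Type*} [Group G] [MulAction G Ω] [FaithfulSMul G Ω]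
    (e : Ω ≃ Option (Pt F q)) (Q : Set G) (t : G)
    (ht : ∀ ω, e (t • ω) = swapFun hF (e ω))
    (hQ : ∀ g ∈ Q, ∃ s, ∀ ω, e (g • ω) = transPerm hF s (e ω))
    (hQ' : ∀ s, ∃ g ∈ Q, ∀ ω, e (g • ω) = transPerm hF s (e ω)) :
    Nonempty (Subgroup.closure (Q ∪ {t}) ≃* Cfsg.PSU 3 F q) := by
  obtain ⟨e'⟩ := nonempty_modelGroup_equiv hF hq
  let ρ : G →* Equiv.Perm (Option (Pt F q)) :=
    e.permCongrHom.toMonoidHom.comp (MulAction.toPermHom G Ω)
  have hρ : ∀ g (π : Equiv.Perm (Option (Pt F q))),
      (∀ ω, e (g • ω) = π (e ω)) → ρ g = π := fun g π h => by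
    ext1 x
    show e (g • e.symm x) = π x
    rw [h, Equiv.apply_symm_apply]
  have hinj : Function.Injective ρ :=
    e.permCongrHom.injective.comp MulAction.toPerm_injective
  have himg : (Subgroup.closure (Q ∪ {t})).map ρ = modelGroup hF := by
    rw [MonoidHom.map_closure, modelGroup]
    congr 1
    rw [Set.image_union, Set.image_singleton, hρ t (swapPerm hF) ht]
    congr 1
    ext π
    constructor
    · rintro ⟨g, hg, rfl⟩
      obtain ⟨s, hs⟩ := hQ g hg
      exact ⟨s, (hρ g _ hs).symm⟩
    · rintro ⟨s, rfl⟩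
      obtain ⟨g, hg, hs⟩ := hQ' s
      exact ⟨g, hg, hρ g _ hs⟩
  exact ⟨((Subgroup.equivMapOfInjective _ ρ hinj).trans (MulEquiv.subgroupCongr himg)).trans e'⟩

end CfsgLib.Perm.RankOne.Unital
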